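import Cfsg.Agent.FS.Asm.Red
import Cfsg.Agent.FS.Pc.Ext
import Cfsg.Agent.FS.Th.Centre

/-!
# S5288: the interface (helper49, project FS, folder FS/N; plan in notes/FS/plan9.md)

All systems live over `⊤ : Subgroup A`, `A : Type` a finite `2`-group.
-/

set_option autoImplicit false

namespace Cfsg.Agent.FS.N

open Cfsg Cfsg.FusionSystem Cfsg.Agent.H752 Cfsg.Agent.FS.Th Cfsg.Agent.FS.Real

abbrev Sys (A : Type) [Group A] := FusionSystem (⊤ : Subgroup A)

section defs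

variable {A : Type} [Group A]

/-- saturated with trivial core -/
structure Hy0 (F : Sys A) : Prop where
  sat : F.IsSaturated 2
  core : F.core = ⊥

/-- the hyperfocal subgroup -/
abbrev hyp (F : Sys A) : Subgroup A := F.hyperfocalSubgroup 2

/-- `f` is an automorphism of odd order of `P` in `F` -/
def OddM (F : Sys A) (P : Subgroup A) (f : A → A) : Prop :=
  Mp F P f ∧ (∀ x ∈ P, f x ∈ P) ∧ ∃ k, Odd k ∧ ∀ x ∈ P, f^[k] x = x

/-- The hyperfocal subgroup is `X × Y`, and all odd maps keep `X` and `Y`. -/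
structure DecBy (F : Sys A) (X Y : Subgroup A) : Prop where
  neX : X ≠ ⊥
  neY : Y ≠ ⊥
  inf : X ⊓ Y = ⊥
  sup : X ⊔ Y = hyp F
  comm : ∀ x ∈ X, ∀ y ∈ Y, x * y = y * x
  inv : ∀ P f, OddM F P f → ∀ x ∈ P, (x ∈ X → f x ∈ X) ∧ (x ∈ Y → f x ∈ Y)

def Dec (F : Sys A) : Prop := ∃ X Y, DecBy F X Y

/-- the hypothesis of the computation -/
structure Hy2 (F : Sys A) : Prop extends Hy0 F where
  nd : ¬ Dec F

/-- a pair of subgroups, fixed or swapped by every element -/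
structure Pair (T R : Subgroup A) : Prop where
  neT : T ≠ ⊥
  neR : R ≠ ⊥
  inf : T ⊓ R = ⊥
  comm : ∀ x ∈ T, ∀ y ∈ R, x * y = y * x
  cj : ∀ s : A, ((∀ x ∈ T, s * x * s⁻¹ ∈ T) ∧ ∀ x ∈ R, s * x * s⁻¹ ∈ R) ∨
    ((∀ x ∈ T, s * x * s⁻¹ ∈ R) ∧ ∀ x ∈ R, s * x * s⁻¹ ∈ T)

/-- up to a conjugation `f` is trivial modulo `T R` and keeps `T` and `R` (a closed property of maps) -/
def decP (T R P : Subgroup A) (f : A → A) : Prop :=
  ∃ s : A, ∀ x ∈ P, x⁻¹ * (s⁻¹ * f x * s) ∈ T ⊔ R ∧ (x ∈ T → s⁻¹ * f x * s ∈ T) ∧ (x ∈ R → s⁻¹ * f x * s ∈ R)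

/-- every odd automorphism of `T` in `F` extends to `T R` by the identity of `R` -/
def Spl (F : Sys A) (T R : Subgroup A) : Prop :=
  ∀ f, OddM F T f → ∃ g, Mp F (T ⊔ R) g ∧ (∀ x ∈ T, g x = f x) ∧ ∀ y ∈ R, g y = y

/-- the automorphism `θ` of the group carries maps of `F` to maps of `F` -/
def Keeps (θ : MulAut A) (F : Sys A) : Prop :=
  ∀ (P : Subgroup A) (a b : A → A), (∀ x ∈ P, b (θ x) = θ (a x)) → Mp F P a → Mp F (P.map θ.toMonoidHom) b

/-- all maps are trivial modulo `M` -/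
def FocLe (F : Sys A) (M : Subgroup A) : Prop := ∀ P f, Mp F P f → focP M P f

/-- a nontrivial odd automorphism of the whole group -/
def Top3 (F : Sys A) : Prop := ∃ f, OddM F ⊤ f ∧ ∃ x, f x ≠ x

/-- the strong form of realizability for the systems between `L3(4)` and its automorphism group -/
def R34 (F : Sys A) : Prop :=
  ∃ (G : Type) (_ : Group G) (_ : Finite G) (f : A →* G) (S : Sylow 2 G) (N : Subgroup G),
    Ind F f ∧ Function.Injective f ∧ (S : Subgroup G) = f.range ∧ N.Normal ∧ (S : Subgroup G) ⊓ N = (hyp F).map f ∧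
    Subgroup.centralizer (((hyp F).map f : Subgroup G) : Set G) ≤ (hyp F).map f ∧
    Nat.card ↥(N ⊓ Subgroup.normalizer (((hyp F).map f : Subgroup G) : Set G)) = 192 ∧
    (∀ g : G, (∀ z ∈ (hyp F).map f, (∀ y ∈ (hyp F).map f, z * y = y * z) →
      g * z * g⁻¹ ∈ (hyp F).map f ∧ ∀ y ∈ (hyp F).map f, g * z * g⁻¹ * y = y * (g * z * g⁻¹)) →
        g ∈ Subgroup.normalizer (((hyp F).map f : Subgroup G) : Set G)) ∧
    (∀ P : Subgroup A, P ≤ hyp F → Nat.card P = 16 → (∀ x ∈ P, x * x = 1) → ∀ s, s ∉ hyp F →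
      (∀ x ∈ P, s * x * s⁻¹ ∈ P) → ∀ x ∈ P, s * x = x * s → ∃ y ∈ P, x = s * y * s⁻¹ * y⁻¹) ∧
    ∃ t ∈ N, t ∈ Subgroup.normalizer (((hyp F).map f : Subgroup G) : Set G) ∧ t ^ 3 = 1 ∧
      ∀ y ∈ (hyp F).map f, t * y = y * t → y = 1

/-- what is known on a system of the list -/
def Out (tag : ℕ) (F : Sys A) : Prop := F.IsRealizable 2 ∧ (tag = 1 → Top3 F) ∧ (tag = 2 → R34 F)

/-- `lam = 0`: perfect; otherwise all maps keep the parity of `a &&& lam` on the normal forms -/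
def Mode (D : PcD) (x : ℕ → A) (lam : ℕ) (F : Sys A) : Prop :=
  (lam = 0 → hyp F = ⊤) ∧ (lam ≠ 0 → ∀ P f, Mp F P f → ∀ a b, a < D.N → b < D.N → el x D.n a ∈ P →
    f (el x D.n a) = el x D.n b → Pc.par D.n (a &&& lam) = Pc.par D.n (b &&& lam))

end defs

/-- an entry of the list of the systems which exist -/
structure Ent where
  D : PcD
  lam : ℕ
  tag : ℕ

/-- `F` belongs to the entry -/
def Hit (p : Ent) {A : Type} [Group A] (F : Sys A) : Prop :=
  ∃ x : ℕ → A, Gen p.D ⊤ x ∧ Mode p.D x p.lam F ∧ Out p.tag F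

/-- `k` models for an entry, pairwise not twisted -/
def Models2 (p : Ent) (k : ℕ) : Prop :=
  ∀ (A : Type) [Group A] (x : ℕ → A), Gen p.D ⊤ x → ∃ M : Fin k → Sys A,
    (∀ i, Hy2 (M i) ∧ Mode p.D x p.lam (M i) ∧ Out p.tag (M i)) ∧ ∀ i j, Tw (M i) (M j) → i = j

/-- the classification at the order `2 ^ n` -/
def Lev (n : ℕ) (L : List Ent) : Prop :=
  ∀ (A : Type) [Group A] [Finite A], Nat.card A = 2 ^ n → ∀ F : Sys A, Hy2 F → ∃ p ∈ L, Hit p F

/-- invariants of a group: solutions of `x² = 1`, of `x⁴ = 1`, commuting pairs, commuting pairs of solutions of `x² = 1` -/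
noncomputable def inv4 (A : Type) [Group A] : ℕ × ℕ × ℕ × ℕ :=
  (Nat.card {x : A // x * x = 1}, Nat.card {x : A // x * x * (x * x) = 1},
    Nat.card {p : A × A // p.1 * p.2 = p.2 * p.1},
    Nat.card {p : A × A // p.1 * p.1 = 1 ∧ p.2 * p.2 = 1 ∧ p.1 * p.2 = p.2 * p.1})

/-- the invariants of the groups of order `2 ^ n` which carry a system -/
def LevI (n : ℕ) (I : List (ℕ × ℕ × ℕ × ℕ)) : Prop :=
  ∀ (A : Type) [Group A] [Finite A], Nat.card A = 2 ^ n → ∀ F : Sys A, Hy2 F → inv4 A ∈ I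

/-- `y` are generators for the presentation `R` with entries of 16 bits -/
structure Pc16 (n R : ℕ) {A : Type} [Group A] (y : ℕ → A) : Prop where
  card : Nat.card A = 2 ^ n
  pc : Pc.IsPc y 0 n 16 R
  span : ∀ g, ∃ a, a < 2 ^ n ∧ g = Pc.el y n a

/-- the list of the groups of order `2 ^ n` (`c` restricts the groups) -/
def Lst (n : ℕ) (c : ∀ (A : Type) [Group A], Prop) (gl : List ℕ) : Prop :=
  ∀ (A : Type) [Group A] [Finite A], Nat.card A = 2 ^ n → c A → ∀ F : Sys A, Hy0 F → ∃ R ∈ gl, ∃ y : ℕ → A, Pc16 n R y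

/-- the claim on one group and one condition `c` on the system (`c = hyp F = ⊤`, or its negation) -/
def ClC (n R : ℕ) (c : ∀ (A : Type) [Group A], Sys A → Prop) (L : List Ent) : Prop :=
  ∀ (A : Type) [Group A] (y : ℕ → A) (F : Sys A), Pc16 n R y → Hy2 F → c A F → ∃ p ∈ L, Hit p F

/-- perfect mode -/
def ClP (n R : ℕ) (L : List Ent) : Prop := ClC n R (fun _ _ F => hyp F = ⊤) L

/-- non-perfect mode, given the invariants of the level below -/
def ClN (n R : ℕ) (I : List (ℕ × ℕ × ℕ × ℕ)) (L : List Ent) : Prop :=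
  LevI (n - 1) I → ClC n R (fun _ _ F => hyp F ≠ ⊤) L

/-- class at most two -/
def Cl2 (A : Type) [Group A] : Prop := ∀ a b c : A, a * b * a⁻¹ * b⁻¹ * c = c * (a * b * a⁻¹ * b⁻¹)

/-- every saturated system over `A` is realizable -/
def All (A : Type) [Group A] : Prop := ∀ F : Sys A, F.IsSaturated 2 → F.IsRealizable 2

/-- the induction hypothesis -/
def IH (N : ℕ) : Prop := ∀ (A : Type) [Group A] [Finite A], IsPGroup 2 A → Nat.card A < N → All A

/-! ### boxes of the theory -/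

/-- the fibre product and the wreath product -/
def BoxFP : Prop :=
  ∀ (A : Type) [Group A] [Finite A], IsPGroup 2 A → IH (Nat.card A) → ∀ (F : Sys A) (T R : Subgroup A),
    F.IsSaturated 2 → Pair T R → (∀ P f, Mp F P f → decP T R P f) → Spl F T R → F.IsRealizable 2

/-- the node `dec` of the engine -/
def BoxD1 : Prop :=
  ∀ (A : Type) [Group A] [Finite A], IsPGroup 2 A → ∀ (F : Sys A) (T R : Subgroup A), Pair T R →
    Closed F (decP T R) ∧ (Hy0 F → (∀ P f, Mp F P f → decP T R P f) → Dec F)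

/-- decomposable systems -/
def BoxD2 : Prop :=
  ∀ (A : Type) [Group A] [Finite A], IsPGroup 2 A → Nat.card A ≤ 2 ^ 9 → ∀ F : Sys A, Hy0 F → Dec F →
    ∃ T R : Subgroup A, Pair T R ∧ (∀ P f, Mp F P f → decP T R P f) ∧ IsPGroup 2 (MulAut T) ∧ T ⊔ R = hyp F ∧
      (Nat.card A ≤ 2 ^ 7 → ∀ θ : MulAut A, Odd (orderOf θ) → Keeps θ F → ∀ x ∈ hyp F, θ x = x)

/-- the subsystems of index two -/
def BoxD3 : Prop :=
  ∀ (A : Type) [Group A] [Finite A], IsPGroup 2 A → ∀ F : Sys A, Hy2 F →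
    (hyp F ≠ ⊤ → ∃ M : Subgroup A, M.index = 2 ∧ FocLe F M) ∧
      ∀ M : Subgroup A, M.index = 2 → FocLe F M → ∃ F₀ : Sys M, Hy2 F₀

/-- `Out` and `Hit` are kept by twists; the pigeonhole -/
def BoxTw : Prop :=
  (∀ (A : Type) [Group A] [Finite A] (tag : ℕ) (F F' : Sys A), Tw F F' → Out tag F' → Out tag F) ∧
    ∀ (p : Ent) (k : ℕ), Models2 p k → ∀ (A : Type) [Group A] (x : ℕ → A), Gen p.D ⊤ x →
      ∀ ty : Sys A → Fin k → Prop, (∀ F, Hy2 F → Mode p.D x p.lam F → ∃ t, ty F t) →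
        (∀ F F' t, ty F t → ty F' t → Tw F F') → ∀ F, Hy2 F → Mode p.D x p.lam F → Hit p F

/-- class two at the order `2 ^ 9`: `D8 × D8 × D8` or `UT₃(8)` -/
def BoxC2 (R₁ R₂ : ℕ) : Prop :=
  ∀ (A : Type) [Group A] [Finite A], Nat.card A = 2 ^ 9 → Cl2 A → ∀ F : Sys A, Hy2 F →
    (∃ y : ℕ → A, Pc16 9 R₁ y) ∨ ∃ y : ℕ → A, Pc16 9 R₂ y

/-- the groups with a Frattini subgroup of order at most two (excluded in the list of the level `8`) -/
def BoxSq : Prop :=
  ∀ (A : Type) [Group A] [Finite A], IsPGroup 2 A → ∀ F : Sys A, Hy0 F → ∀ z : A, z * z = 1 → (∀ y, z * y = y * z) →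
    (∀ g : A, g * g = 1 ∨ g * g = z) → Nat.card A ≤ 16

/-- what the reduction needs from the levels up to `7` -/
structure Low (dU : PcD) : Prop where
  /-- odd automorphisms of the group of a perfect system -/
  top : ∀ (A : Type) [Group A] [Finite A], IsPGroup 2 A → Nat.card A ≤ 2 ^ 7 → ∀ F : Sys A, Hy0 F → hyp F = ⊤ →
    (∃ x : ℕ → A, Gen dU ⊤ x) ∨ ∀ θ : MulAut A, Odd (orderOf θ) → Keeps θ F → Mp F ⊤ θ
  /-- the systems over `UT₃(4)` and its extensions of degree two -/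
  l34 : ∀ (A : Type) [Group A] [Finite A], IsPGroup 2 A → Nat.card A ≤ 2 ^ 7 → ∀ F : Sys A, Hy0 F →
    (∃ x : ℕ → A, Gen dU (hyp F) x) → R34 F

/-- nontrivial core, trivial centre, not constrained -/
def BoxR3 (dU : PcD) : Prop :=
  Low dU → ∀ (A : Type) [Group A] [Finite A], IsPGroup 2 A → Nat.card A ≤ 2 ^ 9 → IH (Nat.card A) → ∀ F : Sys A,
    F.IsSaturated 2 → F.center = ⊥ → F.core ≠ ⊥ → ¬ F.IsConstrained 2 → F.IsRealizable 2

end Cfsg.Agent.FS.N
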