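import Cfsg.Agent.FS.N.Defs

/-!
# S5288: twists and the pigeonhole (helper24, project FS)
-/

set_option autoImplicit false

namespace Cfsg.Agent.FS.N

open Cfsg Cfsg.FusionSystem Cfsg.Agent.H752 Cfsg.Agent.H759 Cfsg.Agent.FS.Th Cfsg.Agent.FS.Real

section tw

variable {A : Type} [Group A] {F F' : Sys A}

/-- `θ` carries `F` to `F'`. -/
def TwBy (θ : MulAut A) (F F' : Sys A) : Prop :=
  ∀ (P : Subgroup A) (a b : A → A), (∀ x ∈ P, b (θ x) = θ (a x)) → (Mp F' (P.map θ.toMonoidHom) b ↔ Mp F P a)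

theorem tw_iff : Tw F F' ↔ ∃ θ, TwBy θ F F' := Iff.rfl

namespace TwBy

variable {θ : MulAut A}

theorem isPush (h : TwBy θ F F') : IsPush (f := θ.toMonoidHom) θ.injective F F' := by
  refine ⟨(Subgroup.map_top_of_surjective _ θ.surjective).symm, fun P φ => ?_⟩
  have h1 := h P (ex φ) (ex (cb (f := θ.toMonoidHom) θ.injective φ)) fun x hx => by
    rw [ex_apply _ (show θ x ∈ P.map θ.toMonoidHom from ⟨x, hx, rfl⟩), ex_apply _ hx]
    exact cb_apply (f := θ.toMonoidHom) θ.injective φ ⟨x, hx⟩ _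
  exact ⟨fun k => (h1.1 (mp_ex k)).mem_hom fun x hx => (ex_apply _ hx).symm,
    fun k => (h1.2 (mp_ex k)).mem_hom fun x hx => (ex_apply _ hx).symm⟩

theorem hyp_eq (h : TwBy θ F F') : hyp F' = (hyp F).map θ.toMonoidHom := h.isPush.hyperfocal_eq 2

theorem mem_hyp (h : TwBy θ F F') {x : A} : θ x ∈ hyp F' ↔ x ∈ hyp F := by
  rw [h.hyp_eq]
  exact Subgroup.mem_map_iff_mem (f := θ.toMonoidHom) θ.injective

theorem ind (h : TwBy θ F F') {G : Type*} [Group G] {f : A →* G} (hf : Ind F' f) : Ind F (f.comp θ.toMonoidHom) := by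
  intro P a
  rw [← h P a (fun y => θ (a (θ⁻¹ y))) (fun x _ => by rw [MulAut.inv_apply_self]), hf]
  refine exists_congr fun g => ⟨fun k x hx => ?_, ?_⟩
  · have h1 := k (θ x) ⟨x, hx, rfl⟩
    rw [MulAut.inv_apply_self] at h1
    exact h1
  · rintro k _ ⟨x, hx, rfl⟩
    show f (θ (a (θ⁻¹ (θ x)))) = _
    rw [MulAut.inv_apply_self]
    exact k x hx

theorem oddM (h : TwBy θ F F') {P : Subgroup A} {f : A → A} (hf : OddM F' (P.map θ.toMonoidHom) f) :
    OddM F P fun x => θ⁻¹ (f (θ x)) := by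
  obtain ⟨h1, h2, k, h3, h4⟩ := hf
  refine ⟨(h P _ f fun x _ => (MulAut.apply_inv_self _ _ _).symm).1 h1, fun x hx => ?_, k, h3, fun x hx => ?_⟩
  · exact (Asm.mem_map_iff' θ P _).1 (h2 _ ⟨x, hx, rfl⟩)
  · have h5 : ∀ n y, (fun x => θ⁻¹ (f (θ x)))^[n] y = θ⁻¹ (f^[n] (θ y)) := by
      intro n
      induction n with
      | zero => exact fun y => (MulAut.inv_apply_self _ _ _).symm
      | succ n ih =>
        intro y
        rw [Function.iterate_succ_apply', Function.iterate_succ_apply', ih, MulAut.apply_inv_self]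
    rw [h5, h4 (θ x) ⟨x, hx, rfl⟩, MulAut.inv_apply_self]

theorem top3 (h : TwBy θ F F') (h' : Top3 F') : Top3 F := by
  obtain ⟨f, h1, x, h2⟩ := h'
  rw [← Subgroup.map_top_of_surjective θ.toMonoidHom θ.surjective] at h1
  refine ⟨_, h.oddM h1, θ⁻¹ x, fun e => h2 ?_⟩
  rw [MulAut.apply_inv_self] at e
  exact (θ⁻¹ : MulAut A).injective e

theorem r34 (h : TwBy θ F F') (h' : R34 F') : R34 F := by
  obtain ⟨G, _, _, f, S, N, h1, h2, h3, h4, h5, h6, h7, h8, h9, h10⟩ := h'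
  have e : (hyp F).map (f.comp θ.toMonoidHom) = (hyp F').map f := by rw [h.hyp_eq, Subgroup.map_map]
  refine ⟨G, inferInstance, inferInstance, f.comp θ.toMonoidHom, S, N, h.ind h1, h2.comp θ.injective,
    by rw [range_comp_aut, h3], h4, by rw [e, h5], by rw [e]; exact h6, by rw [e, h7], by rw [e]; exact h8,
    fun P k1 k2 k3 s k4 k5 x k6 k7 => ?_, by rw [e]; exact h10⟩
  obtain ⟨_, ⟨y, k8, rfl⟩, k9⟩ := h9 (P.map θ.toMonoidHom) (by rw [h.hyp_eq]; exact Subgroup.map_mono k1)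
    (by rw [Subgroup.card_map_of_injective θ.injective, k2])
    (by
      rintro _ ⟨z, hz, rfl⟩
      rw [← map_mul, k3 z hz, map_one]) (θ s) (mt h.mem_hyp.1 k4)
    (by
      rintro _ ⟨z, hz, rfl⟩
      exact ⟨_, k5 z hz, by rw [map_mul, map_mul, map_inv]; rfl⟩) (θ x) ⟨x, k6, rfl⟩
    (by rw [← map_mul, k7, map_mul])
  refine ⟨y, k8, θ.injective ?_⟩
  rw [k9, map_mul, map_mul, map_mul, map_inv, map_inv]
  rfl

end TwBy

theorem Out.tw {tag : ℕ} (h : Tw F F') (h' : Out tag F') : Out tag F := by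
  have h1 := h.isRealizable h'.1
  obtain ⟨θ, h⟩ := tw_iff.1 h
  exact ⟨h1, fun e => h.top3 (h'.2.1 e), fun e => h.r34 (h'.2.2 e)⟩

end tw

theorem boxTw : BoxTw := by
  refine ⟨fun A _ _ tag F F' h h' => h'.tw h, fun p k hM A _ x hx ty hex huniq F hF hm => ?_⟩
  obtain ⟨M, h1, h2⟩ := hM A x hx
  choose t ht using fun i => hex (M i) (h1 i).1 (h1 i).2.1
  have hinj : Function.Injective t := fun i j hij => h2 i j (huniq _ _ (t i) (ht i) (by rw [hij]; exact ht j))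
  obtain ⟨s, hs⟩ := hex F hF hm
  obtain ⟨i, rfl⟩ := Finite.injective_iff_surjective.1 hinj s
  exact ⟨x, hx, hm, (h1 i).2.2.tw (huniq _ _ _ hs (ht i))⟩

end Cfsg.Agent.FS.N
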