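import Cfsg.Agent.FS.N.Tw
import Cfsg.Agent.H757.Central
import Cfsg.Agent.H877.Lim.Factor
import Cfsg.Agent.S5090
import Cfsg.Agent.S5132
import Cfsg.Agent.S5144
import Cfsg.Agent.S5242

/-!
# S5288: the induction (helper24, project FS)
-/

set_option autoImplicit false

namespace Cfsg.Agent.FS.N

open Cfsg Cfsg.FusionSystem Cfsg.Agent.H752 Cfsg.Agent.H759 Cfsg.Agent.FS.Th Cfsg.Agent.FS.Real

universe u

section step

variable {A : Type} [Group A] [Finite A]

/-- a nontrivial centre -/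
theorem real_of_center (hA : IsPGroup 2 A) (ih : IH (Nat.card A)) {F : Sys A} (hF : F.IsSaturated 2)
    (hc : F.center ≠ ⊥) : F.IsRealizable 2 := by
  have : Fact (Nat.Prime 2) := ⟨Nat.prime_two⟩
  have hS : IsPGroup 2 (⊤ : Subgroup A) := hA.to_subgroup _
  have hZ := S5144.result F
  have hN : (F.center.subgroupOf ⊤).Normal := ⟨fun n hn g => by
    have h1 := (H757.IsCentral.stronglyClosed hZ).2 _ le_rfl _ (F.conj_mem le_top g.2) ⟨n, hn⟩
    exact h1⟩
  obtain ⟨E, hE⟩ := S5132.result 2 hS F F.center (H757.IsCentral.stronglyClosed hZ)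
  have hEs := H877.Lim.factor_saturated 2 hS F hF _ hZ _ E hE
  have hlt : Nat.card ((⊤ : Subgroup A) ⧸ F.center.subgroupOf ⊤) < Nat.card A := by
    have h1 := (F.center.subgroupOf ⊤).card_eq_card_quotient_mul_card_subgroup
    have h2 : 1 < Nat.card (F.center.subgroupOf ⊤) := (Subgroup.one_lt_card_iff_ne_bot _).2 fun h =>
      hc (by rwa [Subgroup.subgroupOf_eq_bot, disjoint_top] at h)
    rw [Subgroup.card_top] at h1
    rw [h1]
    exact (Nat.lt_mul_iff_one_lt_right Nat.card_pos).2 h2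
  by_contra h
  exact ((S5242.result 2 hS F hF _ hZ _ E hE).1 ⟨hF, h⟩).2 (ih _ (hS.to_quotient _) hlt E hEs)

omit [Finite A] in
/-- a constrained system -/
theorem real_of_constrained [Finite A] (hA : IsPGroup 2 A) {F : Sys A} (hF : F.IsConstrained 2) : F.IsRealizable 2 := by
  have : Fact (Nat.Prime 2) := ⟨Nat.prime_two⟩
  obtain ⟨G, _, ι, h1, h2, h3, -⟩ := S5090.result 2 (hA.to_subgroup _) F hF
  exact ⟨G, inferInstance, h1, ι, h2, h3⟩

/-- an odd map is an automorphism of odd order -/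
theorem OddM.exists_aut {F : Sys A} {T : Subgroup A} {f : A → A} (h : OddM F T f) :
    ∃ α : MulAut T, Odd (orderOf α) ∧ ∀ x : T, (α x : A) = f x := by
  obtain ⟨h1, h2, k, h3, h4⟩ := h
  let φ : T →* T := MonoidHom.mk' (fun x => ⟨f x, h2 x x.2⟩) fun x y => Subtype.ext (h1.mul x.2 y.2)
  have h5 : Function.Bijective φ := Finite.injective_iff_bijective.1 fun x y e =>
    Subtype.ext (h1.inj x.2 y.2 (congrArg Subtype.val e))
  let α : MulAut T := MulEquiv.ofBijective φ h5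
  have h6 : ∀ n (x : T), (((α ^ n) x : T) : A) = f^[n] x := by
    intro n
    induction n with
    | zero => exact fun _ => rfl
    | succ n ih =>
      intro x
      rw [pow_succ, Function.iterate_succ_apply]
      exact ih (α x)
  refine ⟨α, h3.of_dvd_nat (orderOf_dvd_of_pow_eq_one (MulEquiv.ext fun x => Subtype.ext ?_)), fun _ => rfl⟩
  rw [h6, h4 x x.2]
  rfl

theorem eq_one_of_odd {B : Type*} [Group B] (h : IsPGroup 2 B) {α : B} (hα : Odd (orderOf α)) : α = 1 := by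
  have : Fact (Nat.Prime 2) := ⟨Nat.prime_two⟩
  obtain ⟨k, hk⟩ := IsPGroup.iff_orderOf.1 h α
  rw [← orderOf_eq_one_iff, hk]
  rw [hk] at hα
  rcases k with _ | k
  · rfl
  · exact absurd hα (Nat.not_odd_iff_even.2 (Nat.even_pow.2 ⟨even_two, k.succ_ne_zero⟩))

theorem spl_of_pGroup (F : Sys A) {T : Subgroup A} (R : Subgroup A) (h : IsPGroup 2 (MulAut T)) : Spl F T R := by
  intro f hf
  obtain ⟨α, h1, h2⟩ := hf.exists_aut
  refine ⟨fun x => x, mp_id F le_top, fun x hx => ?_, fun _ _ => rfl⟩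
  rw [← h2 ⟨x, hx⟩, eq_one_of_odd h h1]
  rfl

/-- a decomposable system -/
theorem real_of_dec (hFP : BoxFP) (hD2 : BoxD2) (hA : IsPGroup 2 A) (hc : Nat.card A ≤ 2 ^ 9) (ih : IH (Nat.card A))
    {F : Sys A} (hF : Hy0 F) (hd : Dec F) : F.IsRealizable 2 := by
  obtain ⟨T, R, h1, h2, h3, -⟩ := hD2 A hA hc F hF hd
  exact hFP A hA ih F T R hF.sat h1 h2 (spl_of_pGroup F R h3)

end step

/-- the systems with `Hy2` are realizable -/
def Base : Prop :=
  ∀ (A : Type) [Group A] [Finite A], IsPGroup 2 A → Nat.card A ≤ 2 ^ 9 → ∀ F : Sys A, Hy2 F → F.IsRealizable 2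

theorem base_of_lev (h : ∀ n ≤ 9, ∃ L, Lev n L) : Base := by
  intro A _ _ hA hc F hF
  have : Fact (Nat.Prime 2) := ⟨Nat.prime_two⟩
  obtain ⟨n, hn⟩ := IsPGroup.iff_card.1 hA
  obtain ⟨L, hL⟩ := h n ((Nat.pow_le_pow_iff_right (by norm_num)).1 (hn ▸ hc))
  obtain ⟨p, -, x, -, -, h1⟩ := hL A hn F hF
  exact h1.1

theorem ih_of (hFP : BoxFP) (hD2 : BoxD2) {dU : PcD} (hR3 : BoxR3 dU) (hL : Low dU) (hB : Base) :
    ∀ N, N ≤ 2 ^ 9 + 1 → IH N := by
  intro N
  induction N with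
  | zero => exact fun _ A _ _ _ h => absurd h (Nat.not_lt_zero _)
  | succ N ih =>
    intro hN A _ _ hA hc F hF
    have h9 : Nat.card A ≤ 2 ^ 9 := by omega
    have ih' : IH (Nat.card A) := fun B _ _ hB h => ih (by omega) B hB (by omega)
    by_cases h1 : F.center = ⊥
    · by_cases h2 : F.core = ⊥
      · by_cases h3 : Dec F
        · exact real_of_dec hFP hD2 hA h9 ih' ⟨hF, h2⟩ h3
        · exact hB A hA h9 F ⟨⟨hF, h2⟩, h3⟩
      · by_cases h3 : F.IsConstrained 2
        · exact real_of_constrained hA h3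
        · exact hR3 hL A hA h9 ih' F hF h1 h2 h3
    · exact real_of_center hA ih' hF h1

/-- **S5288 from the boxes.** -/
theorem final_of (hFP : BoxFP) (hD2 : BoxD2) {dU : PcD} (hR3 : BoxR3 dU) (hL : Low dU) (hB : Base)
    {Ω : Type u} [Group Ω] {S : Subgroup Ω} [Finite S] (hS : IsPGroup 2 S) (F : FusionSystem S)
    (hF : F.IsSaturated 2) (hcard : Nat.card S ≤ 2 ^ 9) : F.IsRealizable 2 := by
  have : Fact (Nat.Prime 2) := ⟨Nat.prime_two⟩
  obtain ⟨G, _, _, ⟨e⟩⟩ := Finite.exists_type_univ_nonempty_mulEquiv.{u, 0} S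
  let f : G →* Ω := S.subtype.comp e.symm.toMonoidHom
  have hf : Function.Injective f := (Subgroup.subtype_injective S).comp e.symm.injective
  have h1 : S = (⊤ : Subgroup G).map f := by
    ext x
    refine ⟨fun hx => ⟨e ⟨x, hx⟩, Subgroup.mem_top _, ?_⟩, ?_⟩
    · show ((e.symm (e ⟨x, hx⟩) : S) : Ω) = x
      rw [e.symm_apply_apply]
    · rintro ⟨y, -, rfl⟩
      exact (e.symm y).2
  obtain ⟨F', hF'⟩ := exists_pull' (hf := hf) h1 F
  have hc : Nat.card G = Nat.card S := Nat.card_congr e.symm.toEquiv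
  exact H776.Co.isRealizable_push hF' (ih_of hFP hD2 hR3 hL hB _ le_rfl G (hS.of_equiv e) (by omega) F'
    (hF'.isSaturated_iff.1 hF))

end Cfsg.Agent.FS.N
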